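import Groth.Prelude.Def_FSRel
import Mathlib.RingTheory.Kaehler.Basic
import Mathlib.Algebra.TrivSqZeroExt.Basic
import Mathlib.Algebra.TrivSqZeroExt.Ideal
import Mathlib.RingTheory.Ideal.Quotient.Operations
import Mathlib.LinearAlgebra.TensorProduct.Tower
import Mathlib.Tactic.LinearCombination
import Mathlib.Tactic.Ring

/-!
Relative formal smoothness and left inverses of `C ⊗ Ω[B/A] → Ω[C/A]`.
-/

set_option autoImplicit false
set_option linter.style.haveILetI false

universe u

open TensorProduct

namespace Groth.Agent.FSRel3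

/-- `C ⊕ (C ⊗ Ω[B/A])`, as a type without the componentwise action of `B`. -/
def Ext (A B C : Type u) [CommRing A] [CommRing B] [CommRing C] [Algebra A B] [Algebra B C] : Type u :=
  TrivSqZeroExt C (C ⊗[B] Ω[B⁄A])

noncomputable instance (A B C : Type u) [CommRing A] [CommRing B] [CommRing C] [Algebra A B] [Algebra B C] :
    CommRing (Ext A B C) := inferInstanceAs (CommRing (TrivSqZeroExt C (C ⊗[B] Ω[B⁄A])))

noncomputable instance (A B C : Type u) [CommRing A] [CommRing B] [CommRing C] [Algebra A B] [Algebra B C] [Algebra A C]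
    [IsScalarTower A B C] : Algebra A (Ext A B C) :=
  inferInstanceAs (Algebra A (TrivSqZeroExt C (C ⊗[B] Ω[B⁄A])))

theorem exists_leftInverse {A B C : Type u} [CommRing A] [CommRing B] [CommRing C] [Algebra A B] [Algebra B C]
    [Algebra A C] [IsScalarTower A B C] (h : EGA41.IsFormallySmoothRel A B C) :
    ∃ l : Ω[C⁄A] →ₗ[C] C ⊗[B] Ω[B⁄A], l ∘ₗ KaehlerDifferential.mapBaseChange A B C = LinearMap.id := by
  let M := C ⊗[B] Ω[B⁄A]
  let e : Derivation A B M :=
    (TensorProduct.mk B C Ω[B⁄A] 1).compDer (KaehlerDifferential.D A B)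
  letI algB : Algebra B (Ext A B C) := RingHom.toAlgebra (R := B) (S := TrivSqZeroExt C M)
    { toFun := fun b => TrivSqZeroExt.inl (algebraMap B C b) + TrivSqZeroExt.inr (e b)
      map_one' := TrivSqZeroExt.ext (by simp) (by simp)
      map_mul' := fun a b => TrivSqZeroExt.ext (by simp) (by
        simp [TrivSqZeroExt.snd_mul, op_smul_eq_smul])
      map_zero' := TrivSqZeroExt.ext (by simp) (by simp)
      map_add' := fun a b => TrivSqZeroExt.ext (by simp) (by simp; abel) }
  let toT : Ext A B C →+* TrivSqZeroExt C M := RingHom.id (TrivSqZeroExt C M)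
  let ofT : TrivSqZeroExt C M →+* Ext A B C := RingHom.id (TrivSqZeroExt C M)
  have htoT : ∀ x, ofT (toT x) = x := fun _ => rfl
  have halg : ∀ b, toT (algebraMap B (Ext A B C) b) =
      TrivSqZeroExt.inl (algebraMap B C b) + TrivSqZeroExt.inr (e b) := fun _ => rfl
  haveI hEtower : IsScalarTower A B (Ext A B C) :=
    IsScalarTower.of_algebraMap_eq fun a => by
      have h1 : algebraMap A (TrivSqZeroExt C M) a = toT (algebraMap B (Ext A B C) (algebraMap A B a)) := by
        rw [halg, Derivation.map_algebraMap, TrivSqZeroExt.inr_zero, add_zero,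
          ← IsScalarTower.algebraMap_apply A B C, TrivSqZeroExt.algebraMap_eq_inl']
      exact h1
  let J : Ideal (Ext A B C) := RingHom.ker ((TrivSqZeroExt.fstHom A C M).toRingHom.comp toT)
  have hJ : J ^ 2 = ⊥ := by
    rw [eq_bot_iff, pow_two, Ideal.mul_le]
    intro x hx y hy
    have hx' : (toT x).fst = 0 := hx
    have hy' : (toT y).fst = 0 := hy
    have h2 : toT (x * y) = 0 := by
      rw [map_mul]
      exact TrivSqZeroExt.ext (by simp [hx']) (by simp [hx', hy', TrivSqZeroExt.snd_mul])
    rw [Ideal.mem_bot, ← htoT (x * y), h2, map_zero]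
  let u₀ : C →ₐ[B] Ext A B C ⧸ J :=
    { (Ideal.Quotient.mk J).comp (ofT.comp (TrivSqZeroExt.inlHom C M)) with
      commutes' := fun b => by
        show Ideal.Quotient.mk J (ofT (TrivSqZeroExt.inl (algebraMap B C b))) = Ideal.Quotient.mk J (algebraMap B _ b)
        rw [Ideal.Quotient.eq]
        show (toT (ofT (TrivSqZeroExt.inl (algebraMap B C b)) - algebraMap B (Ext A B C) b)).fst = 0
        rw [map_sub, halg]
        show (TrivSqZeroExt.inl (algebraMap B C b) -
          (TrivSqZeroExt.inl (algebraMap B C b) + TrivSqZeroExt.inr (e b)) : TrivSqZeroExt C M).fst = 0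
        simp }
  obtain ⟨v, hv⟩ := @h (Ext A B C) _ _ _ hEtower J hJ u₀
    ⟨(TrivSqZeroExt.inlAlgHom A C M : C →ₐ[A] TrivSqZeroExt C M), AlgHom.ext fun c => rfl⟩
  let w : C → TrivSqZeroExt C M := fun c => toT (v c)
  have wadd : ∀ x y, w (x + y) = w x + w y := fun x y => by simp only [w, map_add]
  have wmul : ∀ x y, w (x * y) = w x * w y := fun x y => by simp only [w, map_mul]
  have wB : ∀ b, w (algebraMap B C b) = TrivSqZeroExt.inl (algebraMap B C b) + TrivSqZeroExt.inr (e b) := fun b =>
    (congrArg toT (v.commutes b)).trans (halg b)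
  have hfst : ∀ c, (w c).fst = c := fun c => by
    have h2 : (w c - TrivSqZeroExt.inl c).fst = 0 := Ideal.Quotient.eq.mp (AlgHom.congr_fun hv c)
    simpa [sub_eq_zero] using h2
  let D₀ : C →ₗ[A] M :=
    { toFun := fun c => (w c).snd
      map_add' := fun x y => by rw [wadd, TrivSqZeroExt.snd_add]
      map_smul' := fun a x => by
        rw [Algebra.smul_def, wmul, TrivSqZeroExt.snd_mul, hfst, hfst, IsScalarTower.algebraMap_apply A B C, wB,
          Derivation.map_algebraMap, RingHom.id_apply, op_smul_eq_smul]
        simp [← IsScalarTower.algebraMap_apply A B C] }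
  let D : Derivation A C M := Derivation.mk' D₀ fun x y => by
    show (w (x * y)).snd = x • (w y).snd + y • (w x).snd
    rw [wmul, TrivSqZeroExt.snd_mul, hfst, hfst, op_smul_eq_smul]
  have hD : ∀ b, D (algebraMap B C b) = (1 : C) ⊗ₜ[B] KaehlerDifferential.D A B b := fun b => by
    show (w (algebraMap B C b)).snd = _
    rw [wB]
    simp [e]
  refine ⟨D.liftKaehlerDifferential, LinearMap.ext fun z => ?_⟩
  induction z using TensorProduct.induction_on with
  | zero => simp
  | add a b ha hb => rw [map_add, map_add, ha, hb]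
  | tmul c w =>
    have hw : w ∈ Submodule.span B (Set.range (KaehlerDifferential.D A B)) := by
      rw [KaehlerDifferential.span_range_derivation]; trivial
    induction hw using Submodule.span_induction generalizing c with
    | mem _ hx =>
      obtain ⟨x, rfl⟩ := hx
      simp only [LinearMap.comp_apply, KaehlerDifferential.mapBaseChange_tmul, KaehlerDifferential.map_D, map_smul,
        Derivation.liftKaehlerDifferential_comp_D, hD, LinearMap.id_apply]
      rw [TensorProduct.smul_tmul', smul_eq_mul, mul_one]
    | zero => simp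
    | add p q _ _ hp hq => rw [TensorProduct.tmul_add, map_add, map_add, hp c, hq c]
    | smul b p _ hp => rw [← TensorProduct.smul_tmul, hp (b • c)]

theorem isFormallySmoothRel_of_leftInverse {A B C : Type u} [CommRing A] [CommRing B] [CommRing C] [Algebra A B] [Algebra B C]
    [Algebra A C] [IsScalarTower A B C] (l : Ω[C⁄A] →ₗ[C] C ⊗[B] Ω[B⁄A])
    (hl : l ∘ₗ KaehlerDifferential.mapBaseChange A B C = LinearMap.id) :
    EGA41.IsFormallySmoothRel A B C := by
  intro E _ _ _ _ J hJ u₀ hu
  obtain ⟨u, hu⟩ := hu
  have hu' : ∀ c, Ideal.Quotient.mk J (u c) = u₀ c := fun c => AlgHom.congr_fun hu c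
  have hz : ∀ p q : E, p ∈ J → q ∈ J → p * q = 0 := fun p q hp hq => by
    have : p * q ∈ J ^ 2 := by rw [pow_two]; exact Ideal.mul_mem_mul hp hq
    rwa [hJ, Submodule.mem_bot] at this
  letI algC : Algebra C E := u.toRingHom.toAlgebra
  haveI : IsScalarTower A C E := IsScalarTower.of_algebraMap_eq fun a => (u.commutes a).symm
  let N : Submodule C E := J.restrictScalars C
  letI : Module B N := Module.compHom N (algebraMap B C)
  haveI : IsScalarTower B C N := IsScalarTower.of_algebraMap_smul fun _ _ => rfl
  haveI : IsScalarTower A B N := IsScalarTower.of_algebraMap_smul fun a x => by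
    show algebraMap B C (algebraMap A B a) • x = a • x
    rw [← IsScalarTower.algebraMap_apply A B C, algebraMap_smul]
  have hb : ∀ (b : B) (x : N), ((b • x : N) : E) = u (algebraMap B C b) * (x : E) := fun _ _ => rfl
  have hd : ∀ b, u (algebraMap B C b) - algebraMap B E b ∈ J := fun b => by
    rw [← Ideal.Quotient.eq, hu', AlgHom.commutes]
    rfl
  let d₀ : B →ₗ[A] N :=
    { toFun := fun b => ⟨u (algebraMap B C b) - algebraMap B E b, hd b⟩
      map_add' := fun x y => Subtype.ext (by
        show u (algebraMap B C (x + y)) - algebraMap B E (x + y) =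
          u (algebraMap B C x) - algebraMap B E x + (u (algebraMap B C y) - algebraMap B E y)
        rw [map_add, map_add, map_add]; ring)
      map_smul' := fun a x => Subtype.ext (by
        show u (algebraMap B C (a • x)) - algebraMap B E (a • x) = a • (u (algebraMap B C x) - algebraMap B E x)
        simp only [Algebra.smul_def, map_mul, ← IsScalarTower.algebraMap_apply, AlgHom.commutes]
        ring) }
  have hd₀ : ∀ b, (d₀ b : E) = u (algebraMap B C b) - algebraMap B E b := fun _ => rfl
  let d : Derivation A B N := Derivation.mk' d₀ fun x y => Subtype.ext (by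
    show (d₀ (x * y) : E) = ((x • d₀ y : N) : E) + ((y • d₀ x : N) : E)
    rw [hb, hb, hd₀, hd₀, hd₀, map_mul, map_mul, map_mul]
    linear_combination -hz _ _ (hd x) (hd y))
  let L : Ω[C⁄A] →ₗ[C] N := (d.liftKaehlerDifferential.liftBaseChange C).comp l
  let D : Derivation A C N := L.compDer (KaehlerDifferential.D A C)
  have hD : ∀ b, D (algebraMap B C b) = d b := fun b => by
    have h2 := LinearMap.congr_fun hl ((1 : C) ⊗ₜ[B] KaehlerDifferential.D A B b)
    rw [LinearMap.comp_apply, KaehlerDifferential.mapBaseChange_tmul, KaehlerDifferential.map_D, one_smul,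
      LinearMap.id_apply] at h2
    show d.liftKaehlerDifferential.liftBaseChange C (l (KaehlerDifferential.D A C (algebraMap B C b))) = _
    rw [h2, LinearMap.liftBaseChange_tmul, one_smul, Derivation.liftKaehlerDifferential_comp_D]
  let v : C →ₐ[B] E :=
    { toFun := fun c => u c - (D c : E)
      map_one' := by simp
      map_mul' := fun x y => by
        rw [Derivation.leibniz, map_mul]
        show u x * u y - (u x * (D y : E) + u y * (D x : E)) = (u x - (D x : E)) * (u y - (D y : E))
        linear_combination -hz _ _ (D x).2 (D y).2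
      map_zero' := by simp
      map_add' := fun x y => by
        rw [map_add, map_add]
        show u x + u y - ((D x : E) + (D y : E)) = _
        ring
      commutes' := fun b => by
        show u (algebraMap B C b) - (D (algebraMap B C b) : E) = algebraMap B E b
        rw [hD]
        show u (algebraMap B C b) - (d₀ b : E) = algebraMap B E b
        rw [hd₀]; ring }
  refine ⟨v, AlgHom.ext fun c => ?_⟩
  show Ideal.Quotient.mk J (u c - (D c : E)) = u₀ c
  rw [map_sub, Ideal.Quotient.eq_zero_iff_mem.mpr (D c).2, sub_zero, hu']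

end Groth.Agent.FSRel3
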